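import Groth.Agent.NagataLib.Truncation
import Mathlib

/-!
# A weight filtration on the higher double point `k[[x, y, t]] / (x² - yⁿ)`

The ideal `I = (x², xy, y², xt, yt², t⁴)` is the piece of weight at least `4` for the weights `3, 2, 1`,
and so are its powers for the multiples of `4`.
-/

set_option autoImplicit false
universe u

open MvPowerSeries

namespace HighDPLib

variable (k : Type u) [Field k]

/-- The exponent of `xⁱ yᵃ tᵇ`. -/
noncomputable def E (i a b : ℕ) : Fin 3 →₀ ℕ := Finsupp.equivFunOnFinite.symm ![i, a, b]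

@[simp] theorem E_zero (i a b : ℕ) : E i a b 0 = i := rfl
@[simp] theorem E_one (i a b : ℕ) : E i a b 1 = a := rfl
@[simp] theorem E_two (i a b : ℕ) : E i a b 2 = b := rfl

theorem E_add (i a b i' a' b' : ℕ) : E i a b + E i' a' b' = E (i + i') (a + a') (b + b') := by
  ext j; fin_cases j <;> simp [Finsupp.add_apply]

theorem eq_E (d : Fin 3 →₀ ℕ) : d = E (d 0) (d 1) (d 2) := by ext j; fin_cases j <;> simp

theorem E_inj {i a b i' a' b' : ℕ} : E i a b = E i' a' b' ↔ i = i' ∧ a = a' ∧ b = b' := by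
  refine ⟨fun h => ⟨?_, ?_, ?_⟩, by rintro ⟨rfl, rfl, rfl⟩; rfl⟩
  · simpa using congr($h 0)
  · simpa using congr($h 1)
  · simpa using congr($h 2)

theorem E_le {i a b i' a' b' : ℕ} : E i a b ≤ E i' a' b' ↔ i ≤ i' ∧ a ≤ a' ∧ b ≤ b' := by
  rw [Finsupp.le_def]
  simp [Fin.forall_fin_succ, show (E i a b) (Fin.succ (Fin.succ 0)) = b from rfl]

theorem E_sub (i a b i' a' b' : ℕ) : E i a b - E i' a' b' = E (i - i') (a - a') (b - b') := by
  ext j; fin_cases j <;> simp [Finsupp.tsub_apply]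

/-- The weight: `3` for `x`, `2` for `y`, `1` for `t`. -/
def wt (d : Fin 3 →₀ ℕ) : ℕ := 3 * d 0 + 2 * d 1 + d 2

/-- The monomial `xⁱ yᵃ tᵇ`. -/
noncomputable def M (i a b : ℕ) : MvPowerSeries (Fin 3) k := monomial (E i a b) 1

theorem M_mul (i a b i' a' b' : ℕ) : M k i a b * M k i' a' b' = M k (i + i') (a + a') (b + b') := by
  rw [M, M, M, monomial_mul_monomial, E_add, one_mul]

theorem X_zero_pow (i : ℕ) : (X 0 : MvPowerSeries (Fin 3) k) ^ i = M k i 0 0 := by
  rw [X_pow_eq, M, eq_E (Finsupp.single _ i)]; simp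

theorem X_one_pow (i : ℕ) : (X 1 : MvPowerSeries (Fin 3) k) ^ i = M k 0 i 0 := by
  rw [X_pow_eq, M, eq_E (Finsupp.single _ i)]; simp

theorem X_two_pow (i : ℕ) : (X 2 : MvPowerSeries (Fin 3) k) ^ i = M k 0 0 i := by
  rw [X_pow_eq, M, eq_E (Finsupp.single _ i)]; simp

/-- The series of weight at least `N`. -/
noncomputable def W (N : ℕ) : Ideal (MvPowerSeries (Fin 3) k) :=
  Ideal.span {x | ∃ i a b, N ≤ 3 * i + 2 * a + b ∧ x = M k i a b}

theorem M_mem_W {N i a b : ℕ} (h : N ≤ 3 * i + 2 * a + b) : M k i a b ∈ W k N :=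
  Ideal.subset_span ⟨i, a, b, h, rfl⟩

theorem W_mul_le (N N' : ℕ) : W k N * W k N' ≤ W k (N + N') := by
  rw [W, W, Ideal.span_mul_span', Ideal.span_le]
  rintro _ ⟨_, ⟨i, a, b, h, rfl⟩, _, ⟨i', a', b', h', rfl⟩, rfl⟩
  simp only [SetLike.mem_coe, M_mul]
  exact M_mem_W k (by omega)

theorem W_zero : W k 0 = ⊤ := by
  rw [Ideal.eq_top_iff_one, show (1 : MvPowerSeries (Fin 3) k) = M k 0 0 0 by rw [← X_zero_pow, pow_zero]]
  exact M_mem_W k (Nat.zero_le _)

theorem pow_le_W {J : Ideal (MvPowerSeries (Fin 3) k)} {N : ℕ} (h : J ≤ W k N) (m : ℕ) :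
    J ^ m ≤ W k (N * m) := by
  induction m with
  | zero => rw [pow_zero, Nat.mul_zero, W_zero]; exact le_top
  | succ m ih => rw [pow_succ, Nat.mul_succ]; exact (Ideal.mul_mono ih h).trans (W_mul_le k _ _)

theorem vars_le_W : CohenLib.varsIdeal k 3 ≤ W k 1 := by
  rw [CohenLib.varsIdeal, Ideal.span_le]
  rintro _ ⟨j, rfl⟩
  fin_cases j
  · show X 0 ∈ W k 1
    rw [← pow_one (X 0), X_zero_pow]; exact M_mem_W k (by omega)
  · show X 1 ∈ W k 1
    rw [← pow_one (X 1), X_one_pow]; exact M_mem_W k (by omega)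
  · show X 2 ∈ W k 1
    rw [← pow_one (X 2), X_two_pow]; exact M_mem_W k (by omega)

variable (n : ℕ)

/-- The equation of the double point. -/
noncomputable def f : MvPowerSeries (Fin 3) k := X 0 ^ 2 - X 1 ^ n

/-- The ideal of the example. -/
noncomputable def I0 : Ideal (MvPowerSeries (Fin 3) k) :=
  Ideal.span {(X 0 ^ 2 : MvPowerSeries (Fin 3) k), X 0 * X 1, X 1 ^ 2, X 0 * X 2, X 1 * X 2 ^ 2, X 2 ^ 4}

theorem M_sub_reduced (i a b : ℕ) :
    M k i a b - M k (i % 2) (a + n * (i / 2)) b ∈ Ideal.span {f k n} := by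
  rw [Ideal.mem_span_singleton]
  refine dvd_trans (sub_dvd_pow_sub_pow (X 0 ^ 2 : MvPowerSeries (Fin 3) k) (X 1 ^ n) (i / 2)) ⟨M k (i % 2) a b, ?_⟩
  rw [← pow_mul, ← pow_mul, X_zero_pow, X_one_pow, sub_mul, M_mul, M_mul, Nat.zero_add, Nat.zero_add,
    Nat.zero_add, Nat.div_add_mod, Nat.add_comm a]

theorem gens_mem : M k 2 0 0 ∈ I0 k ∧ M k 1 1 0 ∈ I0 k ∧ M k 0 2 0 ∈ I0 k ∧ M k 1 0 1 ∈ I0 k ∧
    M k 0 1 2 ∈ I0 k ∧ M k 0 0 4 ∈ I0 k := by
  have h11 : M k 1 1 0 = X 0 * X 1 := by rw [← pow_one (X 0), ← pow_one (X 1), X_zero_pow, X_one_pow, M_mul]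
  have h101 : M k 1 0 1 = X 0 * X 2 := by rw [← pow_one (X 0), ← pow_one (X 2), X_zero_pow, X_two_pow, M_mul]
  have h012 : M k 0 1 2 = X 1 * X 2 ^ 2 := by rw [← pow_one (X 1), X_one_pow, X_two_pow, M_mul]
  refine ⟨?_, ?_, ?_, ?_, ?_, ?_⟩ <;> apply Ideal.subset_span <;>
    simp [h11, h101, h012, ← X_zero_pow, ← X_one_pow, ← X_two_pow]

theorem I0_le_W : I0 k ≤ W k 4 := by
  rw [I0, Ideal.span_le]
  intro x hx
  simp only [Set.mem_insert_iff, Set.mem_singleton_iff] at hx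
  rcases hx with rfl | rfl | rfl | rfl | rfl | rfl
  · rw [X_zero_pow]; exact M_mem_W k (by omega)
  · rw [← pow_one (X 0), ← pow_one (X 1), X_zero_pow, X_one_pow, M_mul]; exact M_mem_W k (by omega)
  · rw [X_one_pow]; exact M_mem_W k (by omega)
  · rw [← pow_one (X 0), ← pow_one (X 2), X_zero_pow, X_two_pow, M_mul]; exact M_mem_W k (by omega)
  · rw [← pow_one (X 1), X_one_pow, X_two_pow, M_mul]; exact M_mem_W k (by omega)
  · rw [X_two_pow]; exact M_mem_W k (by omega)

theorem reduced_mem : ∀ (m e a b : ℕ), e ≤ 1 → 4 * m ≤ 3 * e + 2 * a + b → M k e a b ∈ I0 k ^ m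
  | 0, _, _, _, _, _ => by simp
  | m + 1, e, a, b, he, h => by
    obtain ⟨-, h110, h020, h101, h012, h004⟩ := gens_mem k
    rw [pow_succ']
    by_cases he1 : e = 1
    · subst he1
      by_cases hb : 1 ≤ b
      · rw [show M k 1 a b = M k 1 0 1 * M k 0 a (b - 1) by rw [M_mul]; congr 1 <;> omega]
        exact Ideal.mul_mem_mul h101 (reduced_mem m 0 a (b - 1) (by omega) (by omega))
      · rw [show M k 1 a b = M k 1 1 0 * M k 0 (a - 1) b by rw [M_mul]; congr 1 <;> omega]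
        exact Ideal.mul_mem_mul h110 (reduced_mem m 0 (a - 1) b (by omega) (by omega))
    · obtain rfl : e = 0 := by omega
      rcases (show 2 ≤ a ∨ a = 1 ∨ a = 0 by omega) with ha | ha | ha
      · rw [show M k 0 a b = M k 0 2 0 * M k 0 (a - 2) b by rw [M_mul]; congr 1 <;> omega]
        exact Ideal.mul_mem_mul h020 (reduced_mem m 0 (a - 2) b (by omega) (by omega))
      · rw [show M k 0 a b = M k 0 1 2 * M k 0 0 (b - 2) by rw [M_mul]; congr 1 <;> omega]
        exact Ideal.mul_mem_mul h012 (reduced_mem m 0 0 (b - 2) (by omega) (by omega))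
      · rw [show M k 0 a b = M k 0 0 4 * M k 0 0 (b - 4) by rw [M_mul]; congr 1 <;> omega]
        exact Ideal.mul_mem_mul h004 (reduced_mem m 0 0 (b - 4) (by omega) (by omega))

/-- The relations of the `m`-th thickening. -/
noncomputable def L (m : ℕ) : Ideal (MvPowerSeries (Fin 3) k) := Ideal.span {f k n} ⊔ I0 k ^ m

theorem W_le_L (hn : 3 ≤ n) (m : ℕ) : W k (4 * m) ≤ L k n m := by
  rw [W, Ideal.span_le]
  rintro _ ⟨i, a, b, h, rfl⟩
  rw [show M k i a b = (M k i a b - M k (i % 2) (a + n * (i / 2)) b) + M k (i % 2) (a + n * (i / 2)) b by ring]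
  refine Submodule.add_mem_sup (M_sub_reduced k n i a b) (reduced_mem k m _ _ _ (by omega) ?_)
  have h3 : 3 * (i / 2) ≤ n * (i / 2) := Nat.mul_le_mul_right _ hn
  omega

theorem L_eq (hn : 3 ≤ n) (m : ℕ) : L k n m = Ideal.span {f k n} ⊔ W k (4 * m) := by
  refine le_antisymm (sup_le_sup_left (pow_le_W k (I0_le_W k) m) _) (sup_le le_sup_left ?_)
  exact W_le_L k n hn m

/-- Indices of the reduced monomials of weight less than `4 m`. -/
abbrev Idx (m : ℕ) : Type := (Σ a : Fin (2 * m), Fin (4 * m - 2 * a)) ⊕ (Σ a : Fin (2 * m - 1), Fin (4 * m - 3 - 2 * a))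

/-- Exponents of the reduced monomials. -/
def ex {m : ℕ} : Idx m → ℕ × ℕ × ℕ
  | .inl d => (0, d.1, d.2)
  | .inr d => (1, d.1, d.2)

theorem ex_lt {m : ℕ} (d : Idx m) : (ex d).1 ≤ 1 ∧ 3 * (ex d).1 + 2 * (ex d).2.1 + (ex d).2.2 < 4 * m := by
  rcases d with ⟨a, b⟩ | ⟨a, b⟩ <;> (have := a.2; have := b.2; simp only [ex]; omega)

theorem ex_injective (m : ℕ) : Function.Injective (ex (m := m)) := by
  rintro (⟨a, b⟩ | ⟨a, b⟩) (⟨a', b'⟩ | ⟨a', b'⟩) h <;> simp only [ex, Prod.mk.injEq] at h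
  · obtain ⟨-, h1, h2⟩ := h
    obtain rfl := Fin.ext h1
    obtain rfl := Fin.ext h2
    rfl
  · omega
  · omega
  · obtain ⟨-, h1, h2⟩ := h
    obtain rfl := Fin.ext h1
    obtain rfl := Fin.ext h2
    rfl

theorem exists_ex {m e a b : ℕ} (he : e ≤ 1) (h : 3 * e + 2 * a + b < 4 * m) : ∃ d : Idx m, ex d = (e, a, b) := by
  rcases (show e = 0 ∨ e = 1 by omega) with rfl | rfl
  · exact ⟨.inl ⟨⟨a, by omega⟩, ⟨b, by simp only; omega⟩⟩, rfl⟩
  · exact ⟨.inr ⟨⟨a, by omega⟩, ⟨b, by simp only; omega⟩⟩, rfl⟩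

/-- Coefficient of the reduced monomial `(e, a, b)` in the normal form. -/
noncomputable def nf (e a b : ℕ) : MvPowerSeries (Fin 3) k →ₗ[k] k :=
  ∑ i ∈ Finset.range (a / n + 1), coeff (E (e + 2 * i) (a - n * i) b)

theorem nf_apply (e a b : ℕ) (g : MvPowerSeries (Fin 3) k) :
    nf k n e a b g = ∑ i ∈ Finset.range (a / n + 1), coeff (E (e + 2 * i) (a - n * i) b) g := by
  rw [nf, LinearMap.sum_apply]

theorem nf_f_mul (hn : 3 ≤ n) {e a b : ℕ} (he : e ≤ 1) (h : MvPowerSeries (Fin 3) k) :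
    nf k n e a b (f k n * h) = 0 := by
  classical
  rw [f, sub_mul, map_sub, sub_eq_zero, nf_apply, nf_apply, X_zero_pow, X_one_pow,
    Finset.sum_range_succ', Finset.sum_range_succ]
  simp only [M, coeff_monomial_mul, E_le, E_sub, one_mul]
  have hlast : ¬ n ≤ a - n * (a / n) := by
    have h1 := Nat.mod_lt a (show n > 0 by omega)
    have h2 := Nat.mod_add_div a n
    omega
  rw [if_neg (by omega), if_neg (fun hc => hlast hc.2.1), add_zero, add_zero]
  refine Finset.sum_congr rfl fun i hi => ?_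
  have hi' : n * (i + 1) ≤ a := by
    have h1 : n * (i + 1) ≤ n * (a / n) := Nat.mul_le_mul_left _ (Finset.mem_range.1 hi)
    exact h1.trans (Nat.mul_div_le a n)
  rw [Nat.mul_succ] at hi'
  rw [if_pos ⟨by omega, by omega, by omega⟩, if_pos ⟨by omega, by omega, by omega⟩, Nat.mul_succ n]
  congr 2
  exact E_inj.2 ⟨by omega, by omega, by omega⟩

theorem nf_W (hn : 3 ≤ n) {N e a b : ℕ} (h : 3 * e + 2 * a + b < N) {g : MvPowerSeries (Fin 3) k} (hg : g ∈ W k N) :
    nf k n e a b g = 0 := by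
  classical
  rw [W, Ideal.span] at hg
  suffices ∀ c : MvPowerSeries (Fin 3) k, nf k n e a b (c * g) = 0 by simpa using this 1
  induction hg using Submodule.span_induction with
  | mem x hx =>
    obtain ⟨i, a', b', hN, rfl⟩ := hx
    intro c
    rw [nf_apply]
    refine Finset.sum_eq_zero fun j hj => ?_
    rw [mul_comm c, M, coeff_monomial_mul, if_neg]
    rw [E_le]
    have h1 : n * j ≤ a := (Nat.mul_le_mul_left _ (Nat.lt_succ_iff.1 (Finset.mem_range.1 hj))).trans (Nat.mul_div_le a n)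
    have h2 : 3 * j ≤ n * j := Nat.mul_le_mul_right _ hn
    omega
  | zero => simp
  | add x y _ _ hx hy => intro c; rw [mul_add, map_add, hx, hy, add_zero]
  | smul r x _ hx => intro c; rw [smul_eq_mul, ← mul_assoc]; exact hx _

theorem nf_M (hn : 3 ≤ n) {e a b i a' b' : ℕ} (he : e ≤ 1) :
    nf k n e a b (M k i a' b') = if e = i % 2 ∧ a = a' + n * (i / 2) ∧ b = b' then 1 else 0 := by
  classical
  rw [nf_apply]
  simp only [M, coeff_monomial, E_inj]
  split_ifs with hc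
  · obtain ⟨rfl, rfl, rfl⟩ := hc
    rw [Finset.sum_eq_single (i / 2), if_pos ⟨by omega, by omega, rfl⟩]
    · intro j _ hj
      rw [if_neg]
      omega
    · intro hj
      exfalso
      refine hj (Finset.mem_range.2 (Nat.lt_succ_of_le ((Nat.le_div_iff_mul_le (by omega)).2 ?_)))
      rw [mul_comm]
      omega
  · refine Finset.sum_eq_zero fun j hj => if_neg ?_
    rintro ⟨h1, h2, h3⟩
    have h1' : n * j ≤ a := (Nat.mul_le_mul_left _ (Nat.lt_succ_iff.1 (Finset.mem_range.1 hj))).trans (Nat.mul_div_le a n)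
    have hj2 : j = i / 2 := by omega
    subst hj2
    exact hc ⟨by omega, by omega, h3⟩

/-- Normal form map. -/
noncomputable def Φ (m : ℕ) : MvPowerSeries (Fin 3) k →ₗ[k] (Idx m → k) :=
  LinearMap.pi fun d => nf k n (ex d).1 (ex d).2.1 (ex d).2.2

theorem Φ_L (hn : 3 ≤ n) (m : ℕ) {g : MvPowerSeries (Fin 3) k} (hg : g ∈ L k n m) : Φ k n m g = 0 := by
  rw [L_eq k n hn, Submodule.mem_sup] at hg
  obtain ⟨x, hx, y, hy, rfl⟩ := hg
  obtain ⟨c, rfl⟩ := Ideal.mem_span_singleton'.1 hx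
  funext d
  show nf k n _ _ _ (c * f k n + y) = 0
  rw [map_add, mul_comm, nf_f_mul k n hn (ex_lt d).1, nf_W k n hn (ex_lt d).2 hy, add_zero]

theorem finrank_quotient (hn : 3 ≤ n) (m : ℕ) :
    Module.Finite k (MvPowerSeries (Fin 3) k ⧸ L k n m) ∧
      Module.finrank k (MvPowerSeries (Fin 3) k ⧸ L k n m) = Fintype.card (Idx m) := by
  classical
  let Q := MvPowerSeries (Fin 3) k ⧸ L k n m
  let π : MvPowerSeries (Fin 3) k →ₗ[k] Q := (Ideal.Quotient.mkₐ k (L k n m)).toLinearMap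
  let Φ' : Q →ₗ[k] (Idx m → k) :=
    ((L k n m).restrictScalars k).liftQ (Φ k n m) (fun g hg => Φ_L k n hn m hg)
      ∘ₗ (Submodule.Quotient.restrictScalarsEquiv k (L k n m)).symm.toLinearMap
  have hΦ' : ∀ g, Φ' (π g) = Φ k n m g := fun g => rfl
  let σ : (Idx m → k) →ₗ[k] Q := Fintype.linearCombination k
    (fun d => π (M k (ex d).1 (ex d).2.1 (ex d).2.2))
  have hsingle : ∀ d : Idx m, Φ k n m (M k (ex d).1 (ex d).2.1 (ex d).2.2) = Pi.single d 1 := by
    intro d
    funext d'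
    show nf k n _ _ _ _ = _
    rw [nf_M k n hn (ex_lt d').1, Pi.single_apply]
    have h1 := (ex_lt d).1
    have h2 : (ex d).1 / 2 = 0 := by omega
    have h3 : (ex d).1 % 2 = (ex d).1 := by omega
    rw [h2, h3, Nat.mul_zero, Nat.add_zero]
    by_cases hdd : d' = d
    · subst hdd; simp
    · rw [if_neg hdd, if_neg]
      rintro ⟨e1, e2, e3⟩
      exact hdd (ex_injective m (Prod.ext e1 (Prod.ext e2 e3)))
  have hσM : ∀ i a b, σ (Φ k n m (M k i a b)) = π (M k i a b) := by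
    intro i a b
    have hred : π (M k i a b) = π (M k (i % 2) (a + n * (i / 2)) b) :=
      Ideal.Quotient.eq.2 (Ideal.mem_sup_left (M_sub_reduced k n i a b))
    have hΦred : Φ k n m (M k i a b) = Φ k n m (M k (i % 2) (a + n * (i / 2)) b) := by
      rw [← hΦ', hred, hΦ']
    rw [hred, hΦred]
    by_cases hlt : 3 * (i % 2) + 2 * (a + n * (i / 2)) + b < 4 * m
    · obtain ⟨d, hd⟩ := exists_ex (by omega) hlt
      have e1 : i % 2 = (ex d).1 := by rw [hd]
      have e2 : a + n * (i / 2) = (ex d).2.1 := by rw [hd]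
      have e3 : b = (ex d).2.2 := by rw [hd]
      rw [e1, e2, e3, hsingle, Fintype.linearCombination_apply_single, one_smul]
    · have hmem : M k (i % 2) (a + n * (i / 2)) b ∈ L k n m := W_le_L k n hn m (M_mem_W k (by omega))
      rw [Φ_L k n hn m hmem, map_zero]
      exact (Ideal.Quotient.eq_zero_iff_mem.2 hmem).symm
  have hσ : ∀ g, σ (Φ k n m g) = π g := by
    intro g
    let T : MvPowerSeries (Fin 3) k →ₗ[k] Q := σ ∘ₗ Φ k n m - π
    have hpoly : ∀ p : MvPolynomial (Fin 3) k, T (algebraMap (MvPolynomial (Fin 3) k) _ p) = 0 := by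
      intro p
      induction p using MvPolynomial.induction_on' with
      | monomial d c =>
        have hc : algebraMap (MvPolynomial (Fin 3) k) (MvPowerSeries (Fin 3) k) (MvPolynomial.monomial d c) =
            c • M k (d 0) (d 1) (d 2) := by
          rw [MvPowerSeries.algebraMap_apply', Algebra.algebraMap_self, MvPowerSeries.map_id, RingHom.id_apply,
            MvPolynomial.coe_monomial, M, ← eq_E, ← map_smul, smul_eq_mul, mul_one]
        rw [hc, map_smul]
        show c • (σ (Φ k n m _) - π _) = 0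
        rw [hσM, sub_self, smul_zero]
      | add p q hp hq => rw [map_add, map_add, hp, hq, add_zero]
    have htail : g - algebraMap (MvPolynomial (Fin 3) k) _ (truncTotal (4 * m) g) ∈ L k n m := by
      refine W_le_L k n hn m ?_
      have h := (Ideal.pow_right_mono (vars_le_W k) (4 * m)).trans (pow_le_W k le_rfl (4 * m))
        (NagataLib.sub_truncTotal_mem (4 * m) g)
      rwa [Nat.one_mul] at h
    have hTt : T (g - algebraMap (MvPolynomial (Fin 3) k) _ (truncTotal (4 * m) g)) = 0 := by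
      show σ (Φ k n m _) - π _ = 0
      rw [Φ_L k n hn m htail, map_zero, zero_sub, neg_eq_zero]
      exact Ideal.Quotient.eq_zero_iff_mem.2 htail
    rw [map_sub, hpoly, sub_zero] at hTt
    exact sub_eq_zero.1 hTt
  let e : Q ≃ₗ[k] (Idx m → k) :=
    LinearEquiv.ofLinear Φ' σ (by
      refine LinearMap.pi_ext' fun d => LinearMap.ext_ring ?_
      show Φ' (σ (Pi.single d 1)) = Pi.single d 1
      rw [Fintype.linearCombination_apply_single, one_smul, hΦ', hsingle])
    (by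
      refine LinearMap.ext fun x => ?_
      obtain ⟨g, rfl⟩ := Ideal.Quotient.mk_surjective x
      exact hσ g)
  exact ⟨Module.Finite.equiv e.symm, by rw [e.finrank_eq, Module.finrank_fintype_fun_eq_card]⟩

theorem sum_even : ∀ j : ℕ, ∑ a ∈ Finset.range j, (2 * j - 2 * a) = j * (j + 1)
  | 0 => rfl
  | j + 1 => by
    rw [Finset.sum_range_succ', Finset.sum_congr rfl (g := fun a => 2 * j - 2 * a) (fun a _ => by omega), sum_even j]
    simp only [Nat.mul_zero, Nat.sub_zero]; ring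

theorem sum_odd : ∀ j : ℕ, ∑ a ∈ Finset.range j, (2 * j - 1 - 2 * a) = j * j
  | 0 => rfl
  | j + 1 => by
    rw [Finset.sum_range_succ', Finset.sum_congr rfl (g := fun a => 2 * j - 1 - 2 * a) (fun a _ => by omega), sum_odd j]
    have h1 : 2 * (j + 1) - 1 - 2 * 0 = 2 * j + 1 := by omega
    rw [h1]; ring

theorem card_Idx (m : ℕ) : Fintype.card (Idx m) = 2 * m * (2 * m + 1) + (2 * m - 1) * (2 * m - 1) := by
  rw [Fintype.card_sum, Fintype.card_sigma, Fintype.card_sigma]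
  simp only [Fintype.card_fin]
  rw [Fin.sum_univ_eq_sum_range (fun a => 4 * m - 2 * a), Fin.sum_univ_eq_sum_range (fun a => 4 * m - 3 - 2 * a),
    ← sum_even (2 * m), ← sum_odd (2 * m - 1)]
  congr 1
  · exact Finset.sum_congr rfl fun a _ => by omega
  · exact Finset.sum_congr rfl fun a _ => by omega

end HighDPLib
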