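import Mathlib

/-!
# Length and dimension
-/

set_option autoImplicit false
set_option backward.isDefEq.respectTransparency false
set_option linter.style.haveILetI false
universe u v

namespace HighDPLib

/-- If all residue fields are the ground field, length equals dimension. -/
theorem length_eq_finrank {k : Type u} [Field k] {A : Type u} [CommRing A] [Algebra k A]
    (hres : ∀ I : Ideal A, I.IsMaximal → Function.Surjective (algebraMap k (A ⧸ I)))
    (Q : Type v) [AddCommGroup Q] [Module A Q] [Module k Q] [IsScalarTower k A Q] [FiniteDimensional k Q] :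
    Module.length A Q = (Module.finrank k Q : ℕ∞) := by
  classical
  induction hd : Module.finrank k Q using Nat.strong_induction_on generalizing Q with
  | _ d ih =>
    subst hd
    rcases subsingleton_or_nontrivial Q with h | h
    · rw [Module.length_eq_zero, Module.finrank_zero_of_subsingleton, Nat.cast_zero]
    have : IsArtinian A Q := isArtinian_of_tower k (inferInstance : IsArtinian k Q)
    obtain ⟨L, hL, -⟩ := (eq_bot_or_exists_atom_le (⊤ : Submodule A Q)).resolve_left top_ne_bot
    have hs : IsSimpleModule A L := isSimpleModule_iff_isAtom.2 hL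
    -- the simple submodule is one-dimensional
    have h1 : Module.finrank k L = 1 := by
      obtain ⟨x, hxL, hx0⟩ := Submodule.exists_mem_ne_zero_of_ne_bot hL.1
      let x' : L := ⟨x, hxL⟩
      have hx' : x' ≠ 0 := fun e => hx0 (congrArg Subtype.val e)
      have hsurj : Function.Surjective (LinearMap.toSpanSingleton A L x') :=
        IsSimpleModule.toSpanSingleton_surjective A hx'
      let I : Ideal A := LinearMap.ker (LinearMap.toSpanSingleton A L x')
      have : I.IsMaximal := IsSimpleModule.ker_toSpanSingleton_isMaximal A hx'
      let e : (A ⧸ I) ≃ₗ[A] L := LinearMap.quotKerEquivOfSurjective _ hsurj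
      have : FiniteDimensional k L :=
        FiniteDimensional.of_injective (L.subtype.restrictScalars k) L.injective_subtype
      have : FiniteDimensional k (A ⧸ I) := Module.Finite.equiv (e.restrictScalars k).symm
      letI := Ideal.Quotient.field I
      have hbij : Function.Bijective (algebraMap k (A ⧸ I)) := ⟨(algebraMap k (A ⧸ I)).injective, hres I inferInstance⟩
      rw [← (e.restrictScalars k).finrank_eq,
        ← (AlgEquiv.ofBijective (Algebra.ofId k (A ⧸ I)) hbij).toLinearEquiv.finrank_eq, Module.finrank_self]
    have hsum : Module.finrank k L + Module.finrank k (Q ⧸ L) = Module.finrank k Q := by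
      rw [add_comm, ← (Submodule.Quotient.restrictScalarsEquiv k L).finrank_eq,
        show Module.finrank k L = Module.finrank k (L.restrictScalars k) from rfl,
        Submodule.finrank_quotient_add_finrank]
    have : FiniteDimensional k (Q ⧸ L) :=
      Module.Finite.equiv (Submodule.Quotient.restrictScalarsEquiv k L)
    rw [Module.length_eq_add_of_exact L.subtype L.mkQ L.injective_subtype L.mkQ_surjective
      (LinearMap.exact_subtype_mkQ L), Module.length_eq_one A L,
      ih _ (by omega) (Q ⧸ L) rfl]
    exact_mod_cast congrArg (fun t : ℕ => (t : ℕ∞)) (show 1 + Module.finrank k (Q ⧸ L) = Module.finrank k Q by omega)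

/-- The residue fields of quotients of a power series ring are the ground field. -/
theorem residue_surjective {k : Type u} [Field k] {σ : Type*} (Q : Ideal (MvPowerSeries σ k))
    (J : Ideal (MvPowerSeries σ k ⧸ Q)) [J.IsMaximal] :
    Function.Surjective ((Ideal.Quotient.mk J).comp (algebraMap k (MvPowerSeries σ k ⧸ Q))) := by
  intro x
  obtain ⟨a, rfl⟩ := Ideal.Quotient.mk_surjective x
  obtain ⟨g, rfl⟩ := Ideal.Quotient.mk_surjective a
  refine ⟨MvPowerSeries.constantCoeff g, ?_⟩
  have hmax : (J.comap (Ideal.Quotient.mk Q)).IsMaximal :=
    Ideal.comap_isMaximal_of_surjective _ Ideal.Quotient.mk_surjective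
  have hmem : algebraMap k (MvPowerSeries σ k) (MvPowerSeries.constantCoeff g) - g ∈
      J.comap (Ideal.Quotient.mk Q) := by
    rw [IsLocalRing.eq_maximalIdeal hmax, IsLocalRing.mem_maximalIdeal, mem_nonunits_iff,
      MvPowerSeries.isUnit_iff_constantCoeff, map_sub, ← MvPowerSeries.c_eq_algebraMap,
      MvPowerSeries.constantCoeff_C, sub_self]
    exact not_isUnit_zero
  exact Ideal.Quotient.eq.2 (by rw [← Ideal.Quotient.mk_algebraMap, ← map_sub]; exact hmem)

end HighDPLib
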